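import Groth.Agent.Lib.Helper5.LL.LL2
import Groth.Agent.Lib.Helper5.AL.AL7
import Groth.Agent.Lib.Helper5.FtPts.FtImage
import Groth.Agent.Lib.Helper5.FtPts.FtArtin

universe u

namespace H5.SE

open AlgebraicGeometry CategoryTheory IsLocalRing H5.LL

variable {X S : Scheme.{u}}

/-- commutativity of the square built from stalk-level data. -/
lemma square_of_comp (f : X ⟶ S) (x : X) {B B' : Type u} [CommRing B] [CommRing B']
    (φ : B' →+* B) (a : X.presheaf.stalk x →+* B) (b : S.presheaf.stalk (f.base x) →+* B')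
    (hcomp : φ.comp b = a.comp (f.stalkMap x).hom) :
    Spec.map (CommRingCat.ofHom φ) ≫ (Spec.map (CommRingCat.ofHom b) ≫ S.fromSpecStalk (f.base x)) =
      (Spec.map (CommRingCat.ofHom a) ≫ X.fromSpecStalk x) ≫ f := by
  rw [Category.assoc, ← Scheme.SpecMap_stalkMap_fromSpecStalk, ← Category.assoc,
    ← Category.assoc, ← Spec.map_comp, ← Spec.map_comp]
  congr 2
  ext r
  exact RingHom.congr_fun hcomp r

lemma closedPoint_of_local (x : X) {B : Type u} [CommRing B] [IsLocalRing B]
    (a : X.presheaf.stalk x →+* B) [ha : IsLocalHom a] :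
    (Spec.map (CommRingCat.ofHom a) ≫ X.fromSpecStalk x).base (closedPoint B) = x := by
  haveI : IsLocalHom (CommRingCat.ofHom a).hom := ha
  change (X.fromSpecStalk x).base ((Spec.map (CommRingCat.ofHom a)).base (closedPoint B)) = x
  rw [Spec_closedPoint (f := CommRingCat.ofHom a)]
  exact Scheme.fromSpecStalk_closedPoint

/-- extracting the stalk-level lift from a scheme-level lift. -/
lemma lift_of_scheme_lift (f : X ⟶ S) (x : X) {B B' : Type u} [CommRing B] [CommRing B']
    [IsLocalRing B] [IsLocalRing B']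
    (φ : B' →+* B) (hφ : Function.Surjective φ)
    (a : X.presheaf.stalk x →+* B) [ha : IsLocalHom a] (b : S.presheaf.stalk (f.base x) →+* B')
    (γ : Spec (CommRingCat.of B') ⟶ X)
    (hγ1 : Spec.map (CommRingCat.ofHom φ) ≫ γ = Spec.map (CommRingCat.ofHom a) ≫ X.fromSpecStalk x)
    (hγ2 : γ ≫ f = Spec.map (CommRingCat.ofHom b) ≫ S.fromSpecStalk (f.base x)) :
    ∃ c : X.presheaf.stalk x →+* B', φ.comp c = a ∧ c.comp (f.stalkMap x).hom = b := by
  have hα := closedPoint_of_local x a
  have hγx : γ.base (closedPoint B') = x := by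
    rw [← closedPoint_of_surj φ hφ, ← hα, ← hγ1]
    rfl
  obtain ⟨c, hcloc, hc⟩ := exists_factor γ x hγx
  refine ⟨c.hom, ?_, ?_⟩
  · have : c ≫ CommRingCat.ofHom φ = CommRingCat.ofHom a := by
      apply eq_of_SpecMap_fromSpecStalk
      rw [Spec.map_comp, Category.assoc, hc, hγ1]
    ext s
    exact congrArg (fun g => g.hom s) this
  · have : f.stalkMap x ≫ c = CommRingCat.ofHom b := by
      apply eq_of_SpecMap_fromSpecStalk
      rw [Spec.map_comp, Category.assoc, Scheme.SpecMap_stalkMap_fromSpecStalk, ← Category.assoc, hc,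
        hγ2]
    ext r
    exact congrArg (fun g => g.hom r) this

end H5.SE

namespace H5.SE

open AlgebraicGeometry CategoryTheory IsLocalRing H5.LL

variable {X S : Scheme.{u}}

lemma locallyOfFiniteType_beta (f : X ⟶ S) [LocallyOfFiniteType f] (x : X)
    (hx : LocallyOfFiniteType (X.fromSpecResidueField x))
    {A' A₀ : Type u} [CommRing A'] [CommRing A₀] [IsLocalRing A'] [IsArtinianRing A']
    (q₀ : A' →+* A₀) (hq₀ : Function.Surjective q₀) (hker : RingHom.ker q₀ ≤ maximalIdeal A')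
    (a : X.presheaf.stalk x →+* A₀) (ha : Function.Surjective a)
    (β : Spec (CommRingCat.of A') ⟶ S)
    (hsq : Spec.map (CommRingCat.ofHom q₀) ≫ β =
      (Spec.map (CommRingCat.ofHom a) ≫ X.fromSpecStalk x) ≫ f) :
    LocallyOfFiniteType β := by
  rw [Groth.Agent.H5.FtPts.finiteType_from_artinian_local_iff S A' β]
  let r₀ : A₀ →+* ResidueField A' := RingHom.liftOfSurjective q₀ hq₀
    ⟨residue A', by rw [IsLocalRing.ker_residue]; exact hker⟩
  have hr₀ : r₀.comp q₀ = residue A' := RingHom.liftOfSurjective_comp _ _ _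
  have hr₀s : Function.Surjective r₀ := by
    intro y
    obtain ⟨a', rfl⟩ := IsLocalRing.residue_surjective y
    exact ⟨q₀ a', RingHom.congr_fun hr₀ a'⟩
  let ρ₀ : X.presheaf.stalk x →+* ResidueField A' := r₀.comp a
  have hρ₀s : Function.Surjective ρ₀ := hr₀s.comp ha
  haveI : IsLocalHom ρ₀ := IsLocalHom.of_surjective ρ₀ hρ₀s
  let ρ : ResidueField (X.presheaf.stalk x) →+* ResidueField A' := IsLocalRing.ResidueField.lift ρ₀
  have hρ : ρ.comp (residue _) = ρ₀ := IsLocalRing.ResidueField.lift_comp_residue ρ₀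
  have hρs : Function.Surjective ρ := by
    intro y
    obtain ⟨b, rfl⟩ := hρ₀s y
    exact ⟨residue _ b, RingHom.congr_fun hρ b⟩
  have key : Spec.map (CommRingCat.ofHom (residue A')) ≫ β =
      Spec.map (CommRingCat.ofHom ρ) ≫ X.fromSpecResidueField x ≫ f := by
    have e1 : CommRingCat.ofHom (residue A') = CommRingCat.ofHom q₀ ≫ CommRingCat.ofHom r₀ := by
      rw [← hr₀]; rfl
    have e2 : CommRingCat.ofHom a ≫ CommRingCat.ofHom r₀ = X.residue x ≫ CommRingCat.ofHom ρ := by
      change CommRingCat.ofHom (r₀.comp a) = CommRingCat.ofHom (ρ.comp (residue _))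
      rw [hρ]
    have e3 : X.fromSpecResidueField x = Spec.map (X.residue x) ≫ X.fromSpecStalk x := rfl
    have e4 : Spec.map (CommRingCat.ofHom r₀) ≫ Spec.map (CommRingCat.ofHom a) =
        Spec.map (CommRingCat.ofHom ρ) ≫ Spec.map (X.residue x) := by
      rw [← Spec.map_comp, ← Spec.map_comp, e2]
      rfl
    rw [e1, Spec.map_comp, Category.assoc, hsq, e3]
    calc Spec.map (CommRingCat.ofHom r₀) ≫ (Spec.map (CommRingCat.ofHom a) ≫ X.fromSpecStalk x) ≫ f
        = (Spec.map (CommRingCat.ofHom r₀) ≫ Spec.map (CommRingCat.ofHom a)) ≫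
            X.fromSpecStalk x ≫ f := by
          rw [Category.assoc, Category.assoc]
      _ = Spec.map (CommRingCat.ofHom ρ) ≫ (Spec.map (X.residue x) ≫ X.fromSpecStalk x) ≫ f := by
          rw [e4, Category.assoc, Category.assoc]
  rw [key]
  have h1 : LocallyOfFiniteType (Spec.map (CommRingCat.ofHom ρ)) :=
    (HasRingHomProperty.Spec_iff (P := @LocallyOfFiniteType)).mpr
      (RingHom.FiniteType.of_surjective ρ hρs)
  haveI : LocallyOfFiniteType (X.fromSpecResidueField x) := hx
  haveI h2 : LocallyOfFiniteType (X.fromSpecResidueField x ≫ f) := inferInstance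
  exact @locallyOfFiniteType_comp _ _ _ _ _ h1 h2

end H5.SE

namespace H5.SE

open AlgebraicGeometry CategoryTheory IsLocalRing H5.LL

variable {X S : Scheme.{u}}

/-- The scheme-level small extension lifting hypothesis. -/
def SchemeSmallLift (f : X ⟶ S) : Prop :=
  ∀ (B B' : Type u) [CommRing B] [CommRing B'] [IsArtinianRing B] [IsArtinianRing B']
      [IsLocalRing B] [IsLocalRing B']
      (φ : B' →+* B) (ε : B'), Function.Surjective φ → RingHom.ker φ = Ideal.span {ε} →
      (∀ m ∈ IsLocalRing.maximalIdeal B', ε * m = 0) →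
      ∀ (α : Spec (CommRingCat.of B) ⟶ X) (β : Spec (CommRingCat.of B') ⟶ S),
        LocallyOfFiniteType β →
        Spec.map (CommRingCat.ofHom φ) ≫ β = α ≫ f →
        ∃ γ : Spec (CommRingCat.of B') ⟶ X, Spec.map (CommRingCat.ofHom φ) ≫ γ = α ∧ γ ≫ f = β

theorem formallySmooth_stalkMap_of_schemeSmallLift (f : X ⟶ S) [LocallyOfFiniteType f]
    [IsLocallyNoetherian S] (x : X) (hx : LocallyOfFiniteType (X.fromSpecResidueField x))
    (H : SchemeSmallLift f) : (f.stalkMap x).hom.FormallySmooth := by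
  letI := (f.stalkMap x).hom.toAlgebra
  haveI : Algebra.EssFiniteType (S.presheaf.stalk (f.base x)) (X.presheaf.stalk x) :=
    LocallyOfFiniteType.stalkMap f x
  haveI : IsNoetherianRing (X.presheaf.stalk x) :=
    Algebra.EssFiniteType.isNoetherianRing (S.presheaf.stalk (f.base x)) (X.presheaf.stalk x)
  change Algebra.FormallySmooth (S.presheaf.stalk (f.base x)) (X.presheaf.stalk x)
  apply Groth.Agent.H5.Jac.formallySmooth_of_isAdicFormallySmooth_of_essFiniteType
  apply H5.AL.isAdicFormallySmooth_of_smallLift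
  intro A' A₀ _ _ _ _ q₀ hq₀ 𝔐 h𝔐 t ht hkerq hann ψ₀ hψ₀s hψ₀k
  obtain ⟨hlA, haA, hlA₀, haA₀⟩ := H5.AL.small_ext_artinian_local q₀.toRingHom hq₀ 𝔐 t ht hkerq hann
    ψ₀.toRingHom hψ₀s hψ₀k
  have h𝔐eq : 𝔐 = maximalIdeal A' := IsLocalRing.eq_maximalIdeal h𝔐
  haveI hloc : IsLocalHom ψ₀.toRingHom := IsLocalHom.of_surjective ψ₀.toRingHom hψ₀s
  have hcomp : q₀.toRingHom.comp (algebraMap (S.presheaf.stalk (f.base x)) A') =
      ψ₀.toRingHom.comp (f.stalkMap x).hom := by
    ext r
    change q₀ (algebraMap _ A' r) = ψ₀ (algebraMap _ _ r)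
    rw [AlgHom.commutes, AlgHom.commutes]
  have hsq := square_of_comp f x q₀.toRingHom ψ₀.toRingHom
    (algebraMap (S.presheaf.stalk (f.base x)) A') hcomp
  have hkerle : RingHom.ker q₀.toRingHom ≤ maximalIdeal A' := by
    have : RingHom.ker q₀.toRingHom = Ideal.span {t} := hkerq
    rw [this, ← h𝔐eq, Ideal.span_singleton_le_iff_mem]
    exact ht
  have hβ := locallyOfFiniteType_beta f x hx q₀.toRingHom hq₀ hkerle ψ₀.toRingHom hψ₀s _ hsq
  obtain ⟨γ, hγ1, hγ2⟩ := H A₀ A' q₀.toRingHom t hq₀ hkerq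
    (fun m hm => by rw [mul_comm]; exact hann m (h𝔐eq ▸ hm)) _ _ hβ hsq
  obtain ⟨c, hc1, hc2⟩ := lift_of_scheme_lift f x q₀.toRingHom hq₀ ψ₀.toRingHom
    (algebraMap (S.presheaf.stalk (f.base x)) A') γ hγ1 hγ2
  refine ⟨{ c with commutes' := fun r => RingHom.congr_fun hc2 r }, ?_⟩
  ext s
  exact RingHom.congr_fun hc1 s

end H5.SE

namespace H5.SE

open AlgebraicGeometry CategoryTheory IsLocalRing H5.LL

variable {X S : Scheme.{u}}

theorem main1417 (f : X ⟶ S) [IsLocallyNoetherian S] [LocallyOfFiniteType f] :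
    Smooth f ↔ SchemeSmallLift f := by
  constructor
  · intro hsm B B' _ _ _ _ _ _ φ ε hφ hker hann α β _ hsq
    have hx : α.base (closedPoint B) ∈ f.smoothLocus := by
      rw [Scheme.Hom.smoothLocus_eq_top]; trivial
    rw [Scheme.Hom.mem_smoothLocus, formallySmooth_iff_localLift] at hx
    have hε : ε ∈ maximalIdeal B' := by
      by_contra hne
      have hu : IsUnit ε := by
        by_contra h; exact hne h
      have h1 : (1 : B') ∈ RingHom.ker φ := by
        rw [hker]
        obtain ⟨u, rfl⟩ := hu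
        exact Ideal.mem_span_singleton'.2 ⟨↑u⁻¹, by simp⟩
      rw [RingHom.mem_ker, map_one] at h1
      exact one_ne_zero h1
    have hker2 : RingHom.ker φ ^ 2 = ⊥ := by
      rw [hker, Ideal.span_singleton_pow, pow_two, hann ε hε]
      simp
    exact (schemeLift_iff f _).2 hx B B' φ hφ hker2 α β rfl hsq
  · intro H
    rw [← Scheme.Hom.smoothLocus_eq_top_iff]
    by_contra hne
    have hZ : IsClosed ((f.smoothLocus : Set X)ᶜ) := f.smoothLocus.2.isClosed_compl
    have hne' : ((f.smoothLocus : Set X)ᶜ).Nonempty := by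
      rw [Set.nonempty_compl]
      intro h
      exact hne (TopologicalSpace.Opens.ext h)
    obtain ⟨x, hxZ, hxft⟩ :=
      (Groth.Agent.H5.FtPts.finiteTypePoints_dense X).1 _ hZ.isLocallyClosed hne'
    exact hxZ (formallySmooth_stalkMap_of_schemeSmallLift f x hxft H)

end H5.SE
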